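import Mathlib
import Cfsg.Agent.RankOne.PrimeKernel
import Cfsg.Agent.Small.Toolkit

/-!
# Groups of degree eighteen with a kernel of order seventeen in a point stabiliser: generalities
-/

set_option autoImplicit false
set_option linter.unusedSectionVars false

open MulAction Cfsg.Lib.RankOne

namespace Cfsg.Lib.Small.SylowSeventeen

universe u v

variable {H : Type u} {Ω : Type v} [Group H] [Finite H] [MulAction H Ω] [Fintype Ω] {p : ℕ} {a : Ω}
  {P : Subgroup H}

/-- The kernel at another point. -/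
theorem conj_kernel (hK : PrimeKernel p a P) (g : H) :
    PrimeKernel p (g • a) (P.map (MulAut.conj g).toMonoidHom) := by
  refine ⟨hK.prime, hK.card_pts, ?_, ?_, ?_, ?_, hK.trans, hK.faithful⟩
  · rw [Subgroup.card_map_of_injective (MulAut.conj g).injective, hK.card_P]
  · rintro _ ⟨u, hu, rfl⟩
    show (g * u * g⁻¹) • g • a = g • a
    rw [mul_smul, mul_smul, inv_smul_smul, show u • a = a from hK.le hu]
  · rintro k hk _ ⟨u, hu, rfl⟩
    have h1 : g⁻¹ * k * g ∈ stabilizer H a := by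
      rw [mem_stabilizer_iff, mul_smul, mul_smul, show k • g • a = g • a from hk, inv_smul_smul]
    refine ⟨g⁻¹ * k * g * u * (g⁻¹ * k * g)⁻¹, hK.normal _ h1 u hu, ?_⟩
    show g * (g⁻¹ * k * g * u * (g⁻¹ * k * g)⁻¹) * g⁻¹ = k * (g * u * g⁻¹) * k⁻¹
    group
  · rintro _ ⟨u, hu, rfl⟩ hu1 c hc
    have h1 : u • g⁻¹ • c = g⁻¹ • c := by
      rw [eq_inv_smul_iff]
      have : (g * u * g⁻¹) • c = c := hc
      rwa [mul_smul, mul_smul] at this
    have := hK.fix u hu (fun e => hu1 (by simp [e])) _ h1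
    rwa [inv_smul_eq_iff] at this

theorem exists_ne_point (hK : PrimeKernel p a P) : ∃ b : Ω, b ≠ a := by
  have := hK.prime.two_le
  exact Fintype.exists_ne_of_one_lt_card (by rw [hK.card_pts]; omega) a

/-- An element fixing three points is trivial. -/
theorem eq_one_of_three (hK : PrimeKernel p a P) {g : H} {c d e : Ω} (hdc : d ≠ c) (hec : e ≠ c)
    (hed : e ≠ d) (h1 : g • c = c) (h2 : g • d = d) (h3 : g • e = e) : g = 1 := by
  have := hK.trans
  obtain ⟨k, hk⟩ := exists_smul_eq H a c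
  subst hk
  exact (conj_kernel hK k).three hdc hec hed h1 h2 h3

/-- The point stabiliser is `P` times a two-point stabiliser. -/
theorem card_stabilizer (hK : PrimeKernel p a P) {b : Ω} (hb : b ≠ a) :
    Nat.card (stabilizer H a) = p * Nat.card (stabilizer H a ⊓ stabilizer H b : Subgroup H) := by
  set E := stabilizer H a ⊓ stabilizer H b with hE
  rw [← hK.card_P, ← Nat.card_prod]
  refine (Nat.card_congr (Equiv.ofBijective
    (fun x : P × E => (⟨x.1.1 * x.2.1, mul_mem (hK.le x.1.2) x.2.2.1⟩ : stabilizer H a)) ⟨?_, ?_⟩)).symm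
  · rintro ⟨⟨u, hu⟩, ⟨x, hx⟩⟩ ⟨⟨v, hv⟩, ⟨y, hy⟩⟩ h
    have h' : u * x = v * y := congrArg Subtype.val h
    have hub : u • b = v • b := by
      have := congrArg (· • b) h'
      simpa only [mul_smul, mem_stabilizer_iff.1 hx.2, mem_stabilizer_iff.1 hy.2] using this
    have huv : u = v := by
      by_contra hne
      refine hb (hK.fix _ (mul_mem (inv_mem hv) hu) (fun e => hne (inv_mul_eq_one.1 e).symm) b ?_)
      rw [mul_smul, hub, inv_smul_smul]
    subst huv
    obtain rfl := mul_left_cancel h'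
    rfl
  · rintro ⟨g, hg⟩
    obtain ⟨u, hu, hub⟩ := hK.exists_map hb (d := g • b) (fun e => hb (smul_left_cancel g
      (e.trans (mem_stabilizer_iff.1 hg).symm)))
    refine ⟨(⟨u, hu⟩, ⟨u⁻¹ * g, (stabilizer H a).mul_mem ((stabilizer H a).inv_mem (hK.le hu)) hg, ?_⟩), Subtype.ext (mul_inv_cancel_left u g)⟩
    show u⁻¹ * g ∈ stabilizer H b
    rw [mem_stabilizer_iff, mul_smul, inv_smul_eq_iff, hub]

/-- The two-point stabiliser embeds in the automorphisms of `P`. -/
theorem card_stab₂_dvd (hK : PrimeKernel p a P) {b : Ω} (hb : b ≠ a) :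
    Nat.card (stabilizer H a ⊓ stabilizer H b : Subgroup H) ∣ p - 1 := by
  have := Fact.mk hK.prime
  have hcyc : IsCyclic P := isCyclic_of_prime_card hK.card_P
  have hle : stabilizer H a ⊓ stabilizer H b ≤ Subgroup.normalizer (P : Set H) := fun g hg => by
    refine Subgroup.mem_set_normalizer_iff.2 fun u => ⟨fun hu => hK.normal g hg.1 u hu, fun hu => ?_⟩
    have := hK.normal g⁻¹ (inv_mem hg.1) _ hu
    rwa [show g⁻¹ * (g * u * g⁻¹) * g⁻¹⁻¹ = u by group] at this
  let f : (stabilizer H a ⊓ stabilizer H b : Subgroup H) →* MulAut P :=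
    P.normalizerMonoidHom.comp (Subgroup.inclusion hle)
  have hf : Function.Injective f := by
    refine (injective_iff_map_eq_one f).2 fun g hg => Subtype.ext ?_
    obtain ⟨⟨u, hu⟩, hu1⟩ := @exists_ne _ (Finite.one_lt_card_iff_nontrivial.1
      (by rw [hK.card_P]; exact hK.prime.one_lt)) (1 : P)
    refine hK.eq_one_of_commute hb g.2.1 g.2.2 hu (fun e => hu1 (Subtype.ext e)) ?_
    have h1 := congrArg Subtype.val (DFunLike.congr_fun hg (⟨u, hu⟩ : P))
    exact mul_inv_eq_iff_eq_mul.1 h1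
  have h1 := Subgroup.card_dvd_of_injective f hf
  rwa [IsCyclic.card_mulAut, hK.card_P, Nat.totient_prime hK.prime] at h1

theorem card_eq_mul (hK : PrimeKernel p a P) {b : Ω} (hb : b ≠ a) :
    Nat.card H = (p + 1) * p * Nat.card (stabilizer H a ⊓ stabilizer H b : Subgroup H) := by
  have := hK.trans
  have h1 := (stabilizer H a).index_mul_card
  rw [index_stabilizer_of_transitive H a, Nat.card_eq_fintype_card (α := Ω), hK.card_pts,
    card_stabilizer hK hb] at h1
  rw [← h1, mul_assoc]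

/-- A nontrivial normal subgroup contains the kernel, unless it is regular; degree eighteen
excludes the latter. -/
theorem le_normal (hK : PrimeKernel 17 a P) (N : Subgroup H) [hN : N.Normal] (hne : N ≠ ⊥) :
    P ≤ N ∧ ∀ c : Ω, ∃ n ∈ N, n • a = c := by
  have := hK.trans
  have := hK.faithful
  have htr : ∀ c : Ω, ∃ n ∈ N, n • a = c := by
    obtain ⟨n, hn, hn1⟩ : ∃ n ∈ N, n ≠ 1 := by
      by_contra hall
      push Not at hall
      exact hne ((Subgroup.eq_bot_iff_forall N).2 hall)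
    obtain ⟨x, hx⟩ : ∃ x : Ω, n • x ≠ x := by
      by_contra hall
      push Not at hall
      exact hn1 (eq_of_smul_eq_smul fun x : Ω => by rw [hall, one_smul])
    obtain ⟨g, hg⟩ := exists_smul_eq H x a
    have hm : g * n * g⁻¹ ∈ N := hN.conj_mem n hn g
    have hma : (g * n * g⁻¹) • a ≠ a := by
      rw [← hg, mul_smul, mul_smul, inv_smul_smul]
      exact fun e => hx (smul_left_cancel g e)
    intro c
    rcases eq_or_ne c a with rfl | hc
    · exact ⟨1, one_mem _, one_smul _ _⟩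
    obtain ⟨u, hu, huc⟩ := hK.exists_map hma hc
    refine ⟨u * (g * n * g⁻¹) * u⁻¹, hN.conj_mem _ hm u, ?_⟩
    rw [mul_smul, mul_smul, show u⁻¹ • a = a from inv_smul_eq_iff.2 (hK.le hu).symm, huc]
  refine ⟨?_, htr⟩
  by_contra hPN
  have hinf : ∀ u ∈ P, u ∈ N → u = 1 := fun u hu huN => by
    by_contra h
    exact hPN ((hK.zpowers_eq hu h) ▸ Subgroup.zpowers_le.2 huN)
  obtain ⟨b, hb⟩ := exists_ne_point hK
  -- `N` is regular
  have hreg : ∀ g ∈ N, g • a = a → g = 1 := by
    intro g hg hga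
    have hcomm : ∀ u ∈ P, g * u = u * g := fun u hu => by
      have h1 : g * u * g⁻¹ * u⁻¹ = 1 := hinf _ (mul_mem (hK.normal g hga u hu) (inv_mem hu))
        (by rw [show g * u * g⁻¹ * u⁻¹ = g * (u * g⁻¹ * u⁻¹) by group]
            exact mul_mem hg (hN.conj_mem _ (inv_mem hg) u))
      exact mul_inv_eq_iff_eq_mul.1 (mul_inv_eq_one.1 h1)
    obtain ⟨u, hu, hub⟩ := hK.exists_map hb (d := g • b)
      (fun e => hb (smul_left_cancel g (e.trans hga.symm)))
    obtain ⟨⟨v, hv⟩, hv1⟩ := @exists_ne _ (Finite.one_lt_card_iff_nontrivial.1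
      (by rw [hK.card_P]; norm_num)) (1 : P)
    have hPc : ∀ x ∈ P, ∀ y ∈ P, x * y = y * x := by
      have : IsCyclic P := @isCyclic_of_prime_card _ _ 17 ⟨by norm_num⟩ hK.card_P
      exact fun x hx y hy => congrArg Subtype.val
        ((IsCyclic.commutative (α := P)).is_comm.comm ⟨x, hx⟩ ⟨y, hy⟩)
    have h1 : u⁻¹ * g = 1 := by
      refine hK.eq_one_of_commute hb ?_ ?_ hv (fun e => hv1 (Subtype.ext e)) ?_
      · rw [mul_smul, hga, inv_smul_eq_iff, show u • a = a from hK.le hu]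
      · rw [mul_smul, inv_smul_eq_iff, hub]
      · rw [mul_assoc, hcomm v hv, ← mul_assoc, hPc u⁻¹ (inv_mem hu) v hv, mul_assoc]
    exact hinf g (inv_mul_eq_one.1 h1 ▸ hu) hg
  have hcardN : Nat.card N = 18 := by
    have : Nat.card Ω = 18 := by rw [Nat.card_eq_fintype_card, hK.card_pts]
    rw [← this]
    refine Nat.card_congr (Equiv.ofBijective (fun n : N => (n : H) • a) ⟨fun m n h => ?_, fun c => ?_⟩)
    · have := hreg _ (mul_mem (inv_mem n.2) m.2) (by
        rw [mul_smul, show (m : H) • a = (n : H) • a from h, inv_smul_smul])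
      exact Subtype.ext (inv_mul_eq_one.1 this).symm
    · obtain ⟨n, hn, hnc⟩ := htr c
      exact ⟨⟨n, hn⟩, hnc⟩
  haveI : Fact (Nat.Prime 2) := ⟨Nat.prime_two⟩
  haveI : Fact (Nat.Prime 3) := ⟨Nat.prime_three⟩
  obtain ⟨⟨x, hx⟩, hx2⟩ := exists_prime_orderOf_dvd_card' (G := N) 2 (by rw [hcardN]; norm_num)
  obtain ⟨⟨y, hy⟩, hy3⟩ := exists_prime_orderOf_dvd_card' (G := N) 3 (by rw [hcardN]; norm_num)
  rw [Subgroup.orderOf_mk] at hx2 hy3
  have hxa : x • a ≠ a := fun e => by rw [hreg x hx e, orderOf_one] at hx2; omega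
  have hya : y • a ≠ a := fun e => by rw [hreg y hy e, orderOf_one] at hy3; omega
  obtain ⟨u, hu, hux⟩ := hK.exists_map hxa hya
  have hm : u * x * u⁻¹ ∈ N := hN.conj_mem x hx u
  have he : y⁻¹ * (u * x * u⁻¹) = 1 := hreg _ (mul_mem (inv_mem hy) hm) (by
    rw [mul_smul, mul_smul, mul_smul, show u⁻¹ • a = a from inv_smul_eq_iff.2 (hK.le hu).symm, hux,
      inv_smul_smul])
  have : orderOf y = orderOf x := by
    rw [inv_mul_eq_one.1 he, show u * x * u⁻¹ = MulAut.conj u x from rfl, MulEquiv.orderOf_eq]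
  omega

end Cfsg.Lib.Small.SylowSeventeen
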