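import Mathlib
import Cfsg.Agent.Small.SylowSeventeen.Basic
import Cfsg.Agent.Small.FourPQ.Tools
import Cfsg.Agent.S0997
import Cfsg.Agent.Classical.Misc.SmallPSL
import Cfsg.Agent.Classical.Misc.PSLEmbed

/-!
# The socle of a group of degree eighteen
-/

set_option autoImplicit false
set_option linter.unusedSectionVars false

open MulAction Cfsg.Lib.RankOne

namespace Cfsg.Lib.Small.SylowSeventeen

universe u v

variable {H : Type u} {Ω : Type v} [Group H] [Finite H] [MulAction H Ω] [Fintype Ω] {a : Ω}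
  {P : Subgroup H}

/-- Projective special linear groups over fields of the same finite size are isomorphic. -/
theorem nonempty_psl_equiv {E K : Type*} [Field E] [Fintype E] [Field K] [Fintype K] {q : ℕ}
    (hE : Fintype.card E = q) (hK : Fintype.card K = q) :
    Nonempty (Matrix.ProjectiveSpecialLinearGroup (Fin 2) E ≃*
      Matrix.ProjectiveSpecialLinearGroup (Fin 2) K) := by
  classical
  let c : E ≃+* K := FiniteField.ringEquivOfCardEq (by rw [hE, hK])
  have hinj := Cfsg.Lib.Classical.PSLEmbed.pslMap_injective (c : E →+* K)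
  refine ⟨MulEquiv.ofBijective _ (hinj.bijective_of_nat_card_le ?_)⟩
  have h1 := Cfsg.Lib.Classical.SmallPSL.card_psl hE
  have h2 := Cfsg.Lib.Classical.SmallPSL.card_psl hK
  exact le_of_eq (Nat.eq_of_mul_eq_mul_left
    (Nat.gcd_pos_of_pos_left _ (by norm_num)) (h2.trans h1.symm))

/-- The kernel inside a normal subgroup. -/
theorem kernel_subgroupOf (hK : PrimeKernel 17 a P) (N : Subgroup H) [hN : N.Normal] (hne : N ≠ ⊥) :
    PrimeKernel 17 a (P.subgroupOf N) := by
  obtain ⟨hPN, htr⟩ := le_normal hK N hne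
  have := hK.faithful
  refine ⟨hK.prime, hK.card_pts, ?_, ?_, ?_, ?_, ?_, ⟨fun h => Subtype.ext (eq_of_smul_eq_smul h)⟩⟩
  · rw [Nat.card_congr (Subgroup.subgroupOfEquivOfLe hPN).toEquiv, hK.card_P]
  · exact fun u hu => hK.le (Subgroup.mem_subgroupOf.1 hu)
  · exact fun g hg u hu => Subgroup.mem_subgroupOf.2 (hK.normal (g : H) hg _ (Subgroup.mem_subgroupOf.1 hu))
  · exact fun u hu hu1 c hc =>
      hK.fix (u : H) (Subgroup.mem_subgroupOf.1 hu) (fun e => hu1 (Subtype.ext e)) c hc
  · constructor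
    intro x y
    obtain ⟨m, hm, hmx⟩ := htr x
    obtain ⟨n, hn, hny⟩ := htr y
    refine ⟨⟨n * m⁻¹, mul_mem hn (inv_mem hm)⟩, ?_⟩
    show (n * m⁻¹) • x = y
    rw [mul_smul, ← hmx, inv_smul_smul, hny]

/-- The socle. -/
theorem socle_simple (hK : PrimeKernel 17 a P) :
    IsSimpleGroup (Subgroup.normalClosure (P : Set H)) ∧
      ¬ ∀ x y : Subgroup.normalClosure (P : Set H), x * y = y * x := by
  have hp : Fact (Nat.Prime 17) := ⟨by norm_num⟩
  set N := Subgroup.normalClosure (P : Set H) with hN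
  have hPN : P ≤ N := Subgroup.subset_normalClosure
  have hne : N ≠ ⊥ := fun e => by
    have := Subgroup.card_le_of_le hPN
    rw [e, Subgroup.card_bot, hK.card_P] at this
    omega
  have hKN := kernel_subgroupOf hK N hne
  obtain ⟨b, hb⟩ := exists_ne_point hK
  have hcard := card_eq_mul hKN hb
  obtain ⟨e, he⟩ : ∃ e, e = Nat.card (stabilizer N a ⊓ stabilizer N b : Subgroup N) := ⟨_, rfl⟩
  rw [← he] at hcard
  have he16 : e ∣ 16 := by have := card_stab₂_dvd hKN hb; rw [← he] at this; exact this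
  have h17 : ¬ 17 ∣ e := fun h => by have := h.trans he16; norm_num at this
  constructor
  · refine { exists_pair_ne := ?_, eq_bot_or_eq_top_of_normal := fun M hM => ?_ }
    · have : 1 < Nat.card N := by
        have : 0 < e := he ▸ Nat.card_pos
        rw [hcard]; omega
      obtain ⟨x, y, hxy⟩ := (Finite.one_lt_card_iff_nontrivial.1 this).exists_pair_ne
      exact ⟨x, y, hxy⟩
    rcases eq_or_ne M ⊥ with h | h
    · exact Or.inl h
    right
    obtain ⟨hPM, -⟩ := le_normal hKN M h
    -- every conjugate of the kernel lies in `M`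
    suffices hall : ∀ g : H, ∀ u ∈ P, ∀ hm : g * u * g⁻¹ ∈ N, (⟨_, hm⟩ : N) ∈ M by
      rw [eq_top_iff]
      rintro ⟨x, hx⟩ -
      have hle : N ≤ M.map N.subtype := by
        show Subgroup.closure (Group.conjugatesOfSet (P : Set H)) ≤ M.map N.subtype
        rw [Subgroup.closure_le]
        intro x hx
        obtain ⟨u, hu, huc⟩ := Group.mem_conjugatesOfSet_iff.1 hx
        obtain ⟨g, hg⟩ := isConj_iff.1 huc
        have hm : g * u * g⁻¹ ∈ N :=
          (Subgroup.normalClosure_normal (s := (P : Set H))).conj_mem _ (hPN hu) g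
        exact ⟨⟨_, hm⟩, hall g u hu hm, hg⟩
      obtain ⟨y, hy, hyx⟩ := hle hx
      obtain rfl : y = ⟨x, hx⟩ := Subtype.ext hyx
      exact hy
    intro g u hu hm
    rcases eq_or_ne u 1 with rfl | hu1
    · rw [show (⟨g * 1 * g⁻¹, hm⟩ : N) = 1 from Subtype.ext (by simp)]
      exact one_mem M
    -- the image of the element in `N ⧸ M` has order prime to seventeen
    set x : N := ⟨g * u * g⁻¹, hm⟩
    have hx : orderOf x = 17 := by
      refine orderOf_eq_prime (Subtype.ext ?_) fun e => hu1 (conj_eq_one_iff.1 (congrArg Subtype.val e))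
      show (g * u * g⁻¹) ^ 17 = 1
      have : u ^ 17 = 1 := by
        have h2 := pow_card_eq_one' (x := (⟨u, hu⟩ : P))
        rw [hK.card_P] at h2
        exact congrArg Subtype.val h2
      rw [conj_pow, this, mul_one, mul_inv_cancel]
    have hidx : ¬ 17 ∣ M.index := fun hd => by
      have h1 : 17 ∣ Nat.card M := by
        rw [← hKN.card_P]
        exact Subgroup.card_dvd_of_le hPM
      have h2 := mul_dvd_mul h1 hd
      rw [M.card_mul_index, hcard] at h2
      have : 17 ∣ 18 * e := Nat.dvd_of_mul_dvd_mul_left (show 0 < 17 by norm_num) (by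
        rw [show 17 * (18 * e) = (17 + 1) * 17 * e by ring]; exact h2)
      rcases (Nat.Prime.dvd_mul (by norm_num : Nat.Prime 17)).1 this with h | h
      · norm_num at h
      · exact h17 h
    have h1 : orderOf (QuotientGroup.mk' M x) ∣ 17 := hx ▸ orderOf_map_dvd _ x
    rcases (Nat.dvd_prime hp.out).1 h1 with h2 | h2
    · exact (QuotientGroup.eq_one_iff x).1 (orderOf_eq_one_iff.1 h2)
    · exfalso
      apply hidx
      rw [← h2, Subgroup.index]
      exact orderOf_dvd_natCard _
  · intro hab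
    obtain ⟨⟨u, hu⟩, hu1⟩ := @exists_ne _ (Finite.one_lt_card_iff_nontrivial.1
      (by rw [hKN.card_P]; norm_num)) (1 : P.subgroupOf N)
    have := hKN.trans
    obtain ⟨n, hn⟩ := exists_smul_eq N a b
    refine hb (hKN.fix u hu (fun e => hu1 (Subtype.ext e)) b ?_)
    rw [← hn, ← mul_smul, hab u n, mul_smul, show u • a = a from hKN.le hu]

theorem card_socle (hK : PrimeKernel 17 a P) :
    Nat.card (Subgroup.normalClosure (P : Set H)) = 2448 ∧
      ∀ (F : Type) [Field F] [Fintype F], Fintype.card F = 17 →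
        Nonempty (Subgroup.normalClosure (P : Set H) ≃* Matrix.ProjectiveSpecialLinearGroup (Fin 2) F) := by
  classical
  obtain ⟨hs, hnc⟩ := socle_simple hK
  set N := Subgroup.normalClosure (P : Set H) with hN
  have hPN : P ≤ N := Subgroup.subset_normalClosure
  have hne : N ≠ ⊥ := fun e => by
    have := Subgroup.card_le_of_le hPN
    rw [e, Subgroup.card_bot, hK.card_P] at this
    omega
  have hKN := kernel_subgroupOf hK N hne
  obtain ⟨b, hb⟩ := exists_ne_point hK
  have hcard := card_eq_mul hKN hb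
  obtain ⟨e, he⟩ : ∃ e, e = Nat.card (stabilizer N a ⊓ stabilizer N b : Subgroup N) := ⟨_, rfl⟩
  rw [← he] at hcard
  have he16 : e ∣ 2 ^ 4 := by have := card_stab₂_dvd hKN hb; rw [← he] at this; exact this
  obtain ⟨i, hi, rfl⟩ := (Nat.dvd_prime_pow Nat.prime_two).1 he16
  haveI := hs
  rcases Cfsg.Agent.S0997.result (Cfsg.Lib.Small.FourPQ.not_isCyclic hnc) 17 2 (i + 1) 9
    (by norm_num) Nat.prime_two (by norm_num) (by rw [hcard, pow_succ]; ring) (by norm_num) with
    ⟨m, F₀, iF, iF', hF₀, -, ⟨f⟩⟩ | ⟨m, F₀, iF, iF', hF₀, hm, -, ⟨f⟩⟩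
  · have hc := Cfsg.Lib.Classical.SmallPSL.card_psl hF₀
    rw [← Nat.card_congr f.toEquiv] at hc
    norm_num at hc
    refine ⟨by omega, fun F _ _ hF => ?_⟩
    obtain ⟨g⟩ := nonempty_psl_equiv hF₀ hF
    exact ⟨f.trans g⟩
  · exfalso
    obtain rfl : m = 4 := Nat.pow_right_injective (le_refl 2) (show 2 ^ m = 2 ^ 4 by omega)
    have hc := Cfsg.Lib.Classical.SmallPSL.card_psl hF₀
    rw [← Nat.card_congr f.toEquiv, hcard] at hc
    norm_num at hc
    have : i ≤ 4 := hi
    interval_cases i <;> omega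

end Cfsg.Lib.Small.SylowSeventeen
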