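import Mathlib
import Cfsg.Agent.Small.SylowSeventeen.Socle
import Cfsg.Agent.Recognition.MathieuEleven.Basic

/-!
# Sylow numbers in degree eighteen
-/

set_option autoImplicit false
set_option linter.unusedSectionVars false

open MulAction Cfsg.Lib.RankOne Matrix

namespace Cfsg.Lib.Small.SylowSeventeen

universe u v

/-- A matrix of projective order nine. -/
def nineMatrix : Matrix.SpecialLinearGroup (Fin 2) (ZMod 17) :=
  ⟨!![0, -1; 1, 3], by decide +kernel⟩

theorem nineMatrix_pow : ((nineMatrix ^ 9 : Matrix.SpecialLinearGroup (Fin 2) (ZMod 17)).1 =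
      !![-1, 0; 0, -1]) ∧ ((nineMatrix ^ 3 : Matrix.SpecialLinearGroup (Fin 2) (ZMod 17)).1 0 1 ≠ 0) := by
  constructor <;> decide +kernel

theorem exists_orderOf_nine :
    ∃ g : Matrix.ProjectiveSpecialLinearGroup (Fin 2) (ZMod 17), orderOf g = 9 := by
  haveI : Fact (Nat.Prime 17) := ⟨by norm_num⟩
  haveI : Fact (Nat.Prime 3) := ⟨by norm_num⟩
  refine ⟨QuotientGroup.mk nineMatrix, orderOf_eq_prime_pow (p := 3) (n := 1) ?_ ?_⟩
  · rw [pow_one, ← QuotientGroup.mk_pow, QuotientGroup.eq_one_iff,
      Matrix.SpecialLinearGroup.mem_center_iff]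
    rintro ⟨r, hr, he⟩
    apply nineMatrix_pow.2
    rw [← he]
    simp
  · rw [show (3 : ℕ) ^ (1 + 1) = 9 by norm_num, ← QuotientGroup.mk_pow, QuotientGroup.eq_one_iff,
      Matrix.SpecialLinearGroup.mem_center_iff]
    refine ⟨-1, by simp, ?_⟩
    rw [nineMatrix_pow.1]
    ext i j
    fin_cases i <;> fin_cases j <;> simp

variable {H : Type u} {Ω : Type v} [Group H] [Finite H] [MulAction H Ω] [Fintype Ω] {a : Ω}
  {P : Subgroup H}

theorem order_cases (hK : PrimeKernel 17 a P) {b : Ω} (hb : b ≠ a) :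
    ∃ e, e = Nat.card (stabilizer H a ⊓ stabilizer H b : Subgroup H) ∧ (e = 8 ∨ e = 16) ∧
      Nat.card H = 306 * e := by
  obtain ⟨e, he⟩ : ∃ e, e = Nat.card (stabilizer H a ⊓ stabilizer H b : Subgroup H) := ⟨_, rfl⟩
  have h1 := card_eq_mul hK hb
  rw [← he] at h1
  have h2 : e ∣ 2 ^ 4 := by have := card_stab₂_dvd hK hb; rw [← he] at this; exact this
  have h3 : 306 * 8 ∣ 306 * e := by
    rw [show 306 * e = (17 + 1) * 17 * e by ring, ← h1, show 306 * 8 = 2448 by norm_num,
      ← (card_socle (Ω := Ω) hK).1]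
    exact Subgroup.card_subgroup_dvd_card _
  have h4 : 8 ∣ e := Nat.dvd_of_mul_dvd_mul_left (by norm_num) h3
  refine ⟨e, he, ?_, by rw [h1]⟩
  obtain ⟨i, hi, rfl⟩ := (Nat.dvd_prime_pow Nat.prime_two).1 h2
  interval_cases i <;> simp at h4 ⊢

theorem card_sylow_two (hK : PrimeKernel 17 a P) : Nat.card (Sylow 2 H) = 153 := by
  classical
  haveI : Fact (Nat.Prime 2) := ⟨Nat.prime_two⟩
  obtain ⟨b, hb⟩ := exists_ne_point hK
  obtain ⟨e, he, he8, hH⟩ := order_cases hK hb
  set E := stabilizer H a ⊓ stabilizer H b with hE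
  obtain ⟨j, hj⟩ : ∃ j, e = 2 ^ j := by
    rcases he8 with h | h
    exacts [⟨3, h⟩, ⟨4, h⟩]
  obtain ⟨T, hT⟩ := (IsPGroup.of_card (p := 2) (n := j) (by rw [← he, hj]) : IsPGroup 2 E).exists_le_sylow
  have hTc : Nat.card (T : Subgroup H) = 2 * e := by
    rw [Cfsg.Lib.Small.card_sylow_of_factor T (a := j + 1) (m := 153) (by rw [hH, hj]; ring)
      (by norm_num), hj, pow_succ]
    ring
  have hfix : ∀ x ∈ E, x ≠ 1 → ∀ c : Ω, x • c = c → c = a ∨ c = b := fun x hx hx1 c hc => by
    by_contra h
    push Not at h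
    exact hx1 (eq_one_of_three hK hb h.1 h.2 hx.1 hx.2 hc)
  have hne : E ≠ ⊥ := fun h => by
    have h1 := he
    rw [h, Subgroup.card_bot] at h1
    omega
  obtain ⟨x₀, hx₀, hx₀1⟩ : ∃ x ∈ E, x ≠ 1 := by
    by_contra h
    push Not at h
    exact hne ((Subgroup.eq_bot_iff_forall E).2 h)
  have hidx : (E.subgroupOf T).index = 2 := by
    have h1 := (E.subgroupOf T).index_mul_card
    rw [Nat.card_congr (Subgroup.subgroupOfEquivOfLe hT).toEquiv, hTc, ← he] at h1
    exact Nat.eq_of_mul_eq_mul_right (by omega) h1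
  have hnorm := Subgroup.normal_of_index_eq_two hidx
  have hpair : ∀ t ∈ (T : Subgroup H), ∀ c, c = a ∨ c = b → t • c = a ∨ t • c = b := by
    intro t ht c hc
    refine hfix x₀ hx₀ hx₀1 _ ?_
    have h1 : t⁻¹ * x₀ * t ∈ E := by
      have h2 := hnorm.conj_mem (⟨x₀, hT hx₀⟩ : (T : Subgroup H)) hx₀ ⟨t⁻¹, inv_mem ht⟩
      simpa [Subgroup.mem_subgroupOf] using h2
    have h2 : (t⁻¹ * x₀ * t) • c = c := by rcases hc with rfl | rfl; exacts [h1.1, h1.2]
    rwa [mul_smul, mul_smul, inv_smul_eq_iff] at h2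
  obtain ⟨t, ht, hta, htb⟩ : ∃ t ∈ (T : Subgroup H), t • a = b ∧ t • b = a := by
    obtain ⟨t, ht, htE⟩ : ∃ t ∈ (T : Subgroup H), t ∉ E := by
      by_contra h
      push Not at h
      have := Subgroup.card_le_of_le (show (T : Subgroup H) ≤ E from h)
      rw [hTc, ← he] at this
      omega
    refine ⟨t, ht, ?_⟩
    rcases hpair t ht a (Or.inl rfl) with h1 | h1 <;> rcases hpair t ht b (Or.inr rfl) with h2 | h2
    · exact absurd (smul_left_cancel t (h2.trans h1.symm)) hb
    · exact absurd (Subgroup.mem_inf.2 ⟨h1, h2⟩) htE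
    · exact ⟨h1, h2⟩
    · exact absurd (smul_left_cancel t (h2.trans h1.symm)) hb
  have hNT : Subgroup.normalizer ((T : Subgroup H) : Set H) = T := by
    refine le_antisymm (fun g hg => ?_) Subgroup.le_normalizer
    have hmove : ∀ c, c = a ∨ c = b → g • c = a ∨ g • c = b := by
      intro c hc
      by_contra h
      push Not at h
      let f : E → ({g • a, g • b} : Finset Ω) := fun x => ⟨(x : H) • g • c, by
        have h1 : g⁻¹ * (x : H) * g ∈ (T : Subgroup H) := by
          have h0 := (Subgroup.mem_set_normalizer_iff.1 (inv_mem hg) (x : H)).1 (hT x.2)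
          rwa [inv_inv] at h0
        rcases hpair _ h1 c hc with h2 | h2 <;> rw [mul_smul, mul_smul, inv_smul_eq_iff] at h2 <;>
          rw [h2] <;> simp⟩
      have hf : Function.Injective f := fun x y hxy => by
        have h1 : ((y : H)⁻¹ * x) • g • c = g • c := by
          rw [mul_smul, show (x : H) • g • c = (y : H) • g • c from congrArg Subtype.val hxy,
            inv_smul_smul]
        have hm : (y : H)⁻¹ * x ∈ E := mul_mem (inv_mem y.2) x.2
        exact Subtype.ext (inv_mul_eq_one.1
          (eq_one_of_three hK hb h.1 h.2 hm.1 hm.2 h1)).symm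
      have h1 := Nat.card_le_card_of_injective f hf
      rw [← he, Nat.card_eq_fintype_card, Fintype.card_coe] at h1
      have := Finset.card_le_two (a := g • a) (b := g • b)
      omega
    rcases hmove a (Or.inl rfl) with h1 | h1 <;> rcases hmove b (Or.inr rfl) with h2 | h2
    · exact absurd (smul_left_cancel g (h2.trans h1.symm)) hb
    · exact hT ⟨h1, h2⟩
    · have hm : t⁻¹ * g ∈ E := Subgroup.mem_inf.2
        ⟨mem_stabilizer_iff.2 (by rw [mul_smul, h1, inv_smul_eq_iff, hta]),
          mem_stabilizer_iff.2 (by rw [mul_smul, h2, inv_smul_eq_iff, htb])⟩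
      rw [← mul_inv_cancel_left t g]
      exact mul_mem ht (hT hm)
    · exact absurd (smul_left_cancel g (h2.trans h1.symm)) hb
  have h1 := Cfsg.Lib.Small.card_normalizer_mul T
  rw [hNT, hTc, hH] at h1
  rcases he8 with rfl | rfl <;> omega

theorem card_sylow_three (hK : PrimeKernel 17 a P) : Nat.card (Sylow 3 H) = 136 := by
  classical
  haveI : Fact (Nat.Prime 3) := ⟨Nat.prime_three⟩
  haveI : Fact (Nat.Prime 17) := ⟨by norm_num⟩
  obtain ⟨b, hb⟩ := exists_ne_point hK
  obtain ⟨e, he, he8, hH⟩ := order_cases hK hb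
  obtain ⟨hcN, hiso⟩ := card_socle (Ω := Ω) hK
  obtain ⟨hs, hnc⟩ := socle_simple (Ω := Ω) hK
  set N := Subgroup.normalClosure (P : Set H) with hN
  haveI hNn : N.Normal := Subgroup.normalClosure_normal
  have := hK.trans
  -- the element of order nine
  obtain ⟨φ⟩ := hiso (ZMod 17) (ZMod.card 17)
  obtain ⟨g₀, hg₀⟩ := exists_orderOf_nine
  set g : H := ((φ.symm g₀ : N) : H) with hg
  have hgN : g ∈ N := (φ.symm g₀).2
  have hg9 : orderOf g = 9 := by rw [hg, Subgroup.orderOf_coe, MulEquiv.orderOf_eq, hg₀]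
  set R := Subgroup.zpowers g with hR
  have hRN : R ≤ N := Subgroup.zpowers_le.2 hgN
  have hR9 : Nat.card R = 9 := by rw [Nat.card_zpowers, hg9]
  have hstab : ∀ c : Ω, Nat.card (stabilizer H c) = 17 * e := fun c => by
    obtain ⟨k, hk⟩ := exists_smul_eq H a c
    have h1 := (stabilizer H c).index_mul_card
    rw [index_stabilizer_of_transitive H c, Nat.card_eq_fintype_card (α := Ω), hK.card_pts, hH] at h1
    omega
  have hfree : ∀ k : ℕ, g ^ k ≠ 1 → ∀ c : Ω, g ^ k • c ≠ c := by
    intro k hk c hc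
    have h1 : orderOf (g ^ k) ∣ 17 * e := hstab c ▸ Subgroup.orderOf_dvd_natCard _ hc
    have h2 : orderOf (g ^ k) ∣ 3 ^ 2 := by
      rw [show (3 : ℕ) ^ 2 = orderOf g by rw [hg9]; norm_num]
      exact orderOf_pow_dvd k
    obtain ⟨i, hi, hi'⟩ := (Nat.dvd_prime_pow Nat.prime_three).1 h2
    rw [hi'] at h1
    have : i = 0 := by
      rcases he8 with rfl | rfl <;> interval_cases i <;> (revert h1; norm_num)
    rw [this, pow_zero, orderOf_eq_one_iff] at hi'
    exact hk hi'
  -- the centralizer in the socle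
  set M := N ⊓ Subgroup.centralizer ({g} : Set H) with hM
  have hM17 : ¬ 17 ∣ Nat.card M := by
    intro hd
    obtain ⟨⟨x, hxN, hxg⟩, hx⟩ := exists_prime_orderOf_dvd_card' 17 hd
    replace hx : orderOf x = 17 := (Subgroup.orderOf_coe (⟨x, hxN, hxg⟩ : M)).trans hx
    have hP17 : Nat.card P = 17 ^ (Nat.card H).factorization 17 := by
      rw [hK.card_P, hH, Nat.factorization_mul (by norm_num) (by omega), Finsupp.add_apply,
        show (306 : ℕ) = 17 ^ 1 * 18 by norm_num, Nat.factorization_mul (by norm_num) (by norm_num),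
        Finsupp.add_apply, (by norm_num : Nat.Prime 17).factorization_pow, Finsupp.single_eq_same,
        Nat.factorization_eq_zero_of_not_dvd (show ¬ 17 ∣ 18 by norm_num),
        Nat.factorization_eq_zero_of_not_dvd (show ¬ 17 ∣ e by rcases he8 with rfl | rfl <;> norm_num)]
      norm_num
    let S : Sylow 17 H := Sylow.ofCard P hP17
    have hpg : IsPGroup 17 (Subgroup.zpowers x) :=
      IsPGroup.of_card (n := 1) (by rw [Nat.card_zpowers, hx, pow_one])
    obtain ⟨S', hS'⟩ := hpg.exists_le_sylow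
    obtain ⟨k, hk⟩ := exists_smul_eq H S S'
    have hxS := hS' (Subgroup.mem_zpowers x)
    rw [← hk, Sylow.coe_subgroup_smul, Subgroup.mem_pointwise_smul_iff_inv_smul_mem] at hxS
    simp only [MulAut.smul_def, MulAut.inv_def, MulAut.conj_symm_apply, S, Sylow.coe_ofCard] at hxS
    have hxa : x • k • a = k • a := by
      have h1 : (k⁻¹ * x * k) • a = a := hK.le hxS
      rwa [mul_smul, mul_smul, inv_smul_eq_iff] at h1
    have hgx : g * x = x * g := Subgroup.mem_centralizer_singleton_iff.1 hxg |>.symm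
    have h2 : g • k • a = k • a := by
      have h1 : (k⁻¹ * x * k) • (k⁻¹ • g • k • a) = k⁻¹ • g • k • a := by
        rw [mul_smul, mul_smul, smul_inv_smul, ← mul_smul x g, ← hgx, mul_smul, hxa]
      have hne : k⁻¹ * x * k ≠ 1 := fun e1 => by
        have : x = 1 := by
          have := congrArg (fun w => k * w * k⁻¹) e1
          simpa [mul_assoc] using this
        rw [this, orderOf_one] at hx
        omega
      have := hK.fix _ hxS hne _ h1
      rwa [inv_smul_eq_iff] at this
    refine hfree 1 ?_ (k • a) (by rwa [pow_one])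
    rw [pow_one]
    intro e1
    rw [e1, orderOf_one] at hg9
    omega
  have hM2 : ¬ 2 ∣ Nat.card M := by
    intro hd
    haveI : Fact (Nat.Prime 2) := ⟨Nat.prime_two⟩
    obtain ⟨⟨z, hzN, hzg⟩, hz⟩ := exists_prime_orderOf_dvd_card' 2 hd
    replace hz : orderOf z = 2 := (Subgroup.orderOf_coe (⟨z, hzN, hzg⟩ : M)).trans hz
    have hzgc : z * g = g * z := Subgroup.mem_centralizer_singleton_iff.1 hzg
    have hg1 : g ≠ 1 := fun e1 => by rw [e1, orderOf_one] at hg9; omega
    have hg2 : g ^ 2 ≠ 1 := fun e1 => by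
      have := orderOf_dvd_of_pow_eq_one e1
      rw [hg9] at this
      norm_num at this
    have hzfree : ∀ c : Ω, z • c ≠ c := by
      intro c hc
      have hzc : ∀ k : ℕ, z • g ^ k • c = g ^ k • c := fun k => by
        rw [← mul_smul, (show Commute z g from hzgc).pow_right k |>.eq, mul_smul, hc]
      have h1 : g • c ≠ c := by simpa using hfree 1 (by rwa [pow_one]) c
      have h2 : g ^ 2 • c ≠ c := hfree 2 hg2 c
      have h3 : g ^ 2 • c ≠ g • c := by
        rw [pow_two, mul_smul]
        exact fun e1 => h1 (smul_left_cancel g e1)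
      have := eq_one_of_three hK h1 h2 h3 hc (by simpa using hzc 1) (hzc 2)
      rw [this, orderOf_one] at hz
      omega
    -- an element of the socle is an even permutation
    let ψ : N →* ℤˣ := Equiv.Perm.sign.comp ((MulAction.toPermHom H Ω).comp N.subtype)
    have hψ : ψ.ker = ⊤ := by
      haveI := hs
      refine (IsSimpleGroup.eq_bot_or_eq_top_of_normal ψ.ker inferInstance).resolve_left fun h => hnc ?_
      intro x y
      apply (MonoidHom.ker_eq_bot_iff ψ).1 h
      rw [map_mul, map_mul, mul_comm]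
    have hsign : Equiv.Perm.sign (MulAction.toPermHom H Ω z) = 1 := by
      have h0 : (⟨z, hzN⟩ : N) ∈ ψ.ker := by rw [hψ]; exact Subgroup.mem_top _
      exact MonoidHom.mem_ker.1 h0
    set σ := MulAction.toPermHom H Ω z with hσ
    have hσ2 : σ ^ 2 = 1 := by rw [hσ, ← map_pow, ← hz, pow_orderOf_eq_one, map_one]
    have hsupp : σ.support = Finset.univ := Finset.eq_univ_of_forall fun c =>
      Equiv.Perm.mem_support.2 (hzfree c)
    have hct : ∀ n ∈ σ.cycleType, n = 2 := fun n hn => by
      have h1 : n ∣ 2 := (Equiv.Perm.dvd_of_mem_cycleType hn).trans (orderOf_dvd_of_pow_eq_one hσ2)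
      have h2 := Equiv.Perm.two_le_of_mem_cycleType hn
      have := Nat.le_of_dvd (by norm_num) h1
      omega
    have hrep := Multiset.eq_replicate_card.2 hct
    have hsum := Equiv.Perm.sum_cycleType σ
    rw [hrep, Multiset.sum_replicate, smul_eq_mul, hsupp, Finset.card_univ, hK.card_pts] at hsum
    rw [Equiv.Perm.sign_of_cycleType, hrep, Multiset.sum_replicate, Multiset.card_replicate,
      smul_eq_mul] at hsign
    rw [show Multiset.card σ.cycleType = 9 by omega] at hsign
    norm_num at hsign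
  have hM9 : Nat.card M ∣ 9 := by
    have h1 : Nat.card M ∣ 2 ^ 4 * 17 * 9 := by
      rw [show 2 ^ 4 * 17 * 9 = 2448 by norm_num, ← hcN]
      exact Subgroup.card_dvd_of_le inf_le_left
    have h2 : Nat.Coprime (Nat.card M) (2 ^ 4 * 17) := Nat.Coprime.mul_right
      (((Nat.prime_two.coprime_iff_not_dvd).2 hM2).symm.pow_right 4)
      (((by norm_num : Nat.Prime 17).coprime_iff_not_dvd).2 hM17).symm
    exact h2.dvd_of_dvd_mul_left h1
  -- the normalizer in the socle
  set L := N ⊓ Subgroup.normalizer (R : Set H) with hL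
  have hL18 : Nat.card L ≤ 18 := by
    let f : L →* MulAut R := R.normalizerMonoidHom.comp (Subgroup.inclusion inf_le_right)
    have hker : Nat.card f.ker ∣ 9 := by
      refine dvd_trans ?_ hM9
      let j : f.ker →* M := ((N.subtype).comp ((Subgroup.inclusion (inf_le_left : L ≤ N)).comp f.ker.subtype)).codRestrict M
        fun x => ⟨x.1.2.1, Subgroup.mem_centralizer_singleton_iff.2 (by
          have h1 := congrArg Subtype.val (DFunLike.congr_fun (MonoidHom.mem_ker.1 x.2)
            (⟨g, Subgroup.mem_zpowers g⟩ : R))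
          exact mul_inv_eq_iff_eq_mul.1 h1)⟩
      refine Subgroup.card_dvd_of_injective j fun x y h => ?_
      exact Subtype.ext (Subtype.ext (congrArg (fun w : M => (w : H)) h))
    have hran : Nat.card f.range ∣ 6 := by
      have hcyc : IsCyclic R := by rw [hR]; infer_instance
      have h1 := Subgroup.card_subgroup_dvd_card f.range
      rwa [IsCyclic.card_mulAut, hR9, show Nat.totient 9 = 6 by decide] at h1
    have h54 : Nat.card L ∣ 54 := by
      rw [Subgroup.card_eq_card_quotient_mul_card_subgroup f.ker,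
        Nat.card_congr (QuotientGroup.quotientKerEquivRange f).toEquiv]
      exact mul_dvd_mul hran hker
    have h2448 : Nat.card L ∣ 2448 := hcN ▸ Subgroup.card_dvd_of_le inf_le_left
    exact Nat.le_of_dvd (by norm_num) (Nat.dvd_gcd h54 h2448)
  have hcH : Nat.card H = 3 ^ 2 * (34 * e) := by rw [hH]; ring
  have h3e : ¬ 3 ∣ 34 * e := by rcases he8 with rfl | rfl <;> norm_num
  let S : Sylow 3 H := Sylow.ofCard R (by
    rw [hR9, hcH, Nat.factorization_mul (by norm_num) (by omega), Finsupp.add_apply,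
      Nat.prime_three.factorization_pow, Finsupp.single_eq_same,
      Nat.factorization_eq_zero_of_not_dvd h3e]
    all_goals norm_num)
  have hSR : (S : Subgroup H) = R := Sylow.coe_ofCard _ _
  have hge : 136 ≤ Nat.card (Sylow 3 H) := by
    rw [S.card_eq_index_normalizer,
      show Subgroup.normalizer (S : Set H) = Subgroup.normalizer (R : Set H) by rw [← hSR]; rfl]
    have h1 : (Subgroup.normalizer (R : Set H)).relIndex N ≤ (Subgroup.normalizer (R : Set H)).index :=
      (Subgroup.relIndex_le_of_le_right le_top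
        (by rw [Subgroup.relIndex_top_right]; exact Subgroup.index_ne_zero_of_finite)).trans_eq
        (Subgroup.relIndex_top_right _)
    have h2 := Cfsg.Lib.MathieuEleven.card_inf_mul_relIndex (Subgroup.normalizer (R : Set H)) N
    rw [hcN] at h2
    change Nat.card L * _ = _ at h2
    have h3 : Nat.card L * (Subgroup.normalizer (R : Set H)).relIndex N ≤
        18 * (Subgroup.normalizer (R : Set H)).relIndex N := Nat.mul_le_mul_right _ hL18
    omega
  have hall : ∀ Q : Sylow 3 H, (Q : Subgroup H) ≤ N := fun Q => by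
    obtain ⟨k, hk⟩ := exists_smul_eq H S Q
    rw [← hk]
    intro x hx
    rw [Sylow.coe_subgroup_smul, Subgroup.mem_pointwise_smul_iff_inv_smul_mem, hSR] at hx
    simp only [MulAut.smul_def, MulAut.inv_def, MulAut.conj_symm_apply] at hx
    have := hNn.conj_mem _ (hRN hx) k
    simpa [mul_assoc] using this
  have hle : Nat.card (Sylow 3 H) ≤ 272 := by
    have h1 : Nat.card (Sylow 3 H) ≤ Nat.card (Sylow 3 N) := by
      refine Nat.card_le_card_of_injective (fun Q => Q.subtype (hall Q)) fun Q Q' h => ?_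
      refine Sylow.ext ?_
      have h' := congrArg (fun W : Sylow 3 N => (W : Subgroup N).map N.subtype) h
      simp only [Sylow.coe_subtype, Subgroup.subgroupOf_map_subtype] at h'
      rwa [inf_eq_left.2 (hall Q), inf_eq_left.2 (hall Q')] at h'
    have h2 := Sylow.card_dvd_index (S.subtype (hall S))
    have h3 := ((S.subtype (hall S) : Sylow 3 N) : Subgroup N).index_mul_card
    rw [Sylow.coe_subtype, Nat.card_congr (Subgroup.subgroupOfEquivOfLe (hall S)).toEquiv, hSR,
      hR9, hcN] at h3
    have := Nat.le_of_dvd (Nat.pos_of_ne_zero Subgroup.index_ne_zero_of_finite) h2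
    rw [Sylow.coe_subtype, hSR] at this
    omega
  have hdvd : Nat.card (Sylow 3 H) ∣ 544 := by
    have h2 := S.card_dvd_index
    have h3 := (S : Subgroup H).index_mul_card
    rw [hSR, hR9, hcH] at h3
    rw [hSR, show R.index = 34 * e by omega] at h2
    refine h2.trans ?_
    rcases he8 with rfl | rfl <;> norm_num
  have hmod : Nat.card (Sylow 3 H) % 3 = 1 := card_sylow_modEq_one 3 H
  have hmem := Nat.mem_divisors.2 ⟨hdvd, (by norm_num : (544 : ℕ) ≠ 0)⟩
  rw [show Nat.divisors 544 = {1, 2, 4, 8, 16, 17, 32, 34, 68, 136, 272, 544} by decide +kernel] at hmem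
  simp only [Finset.mem_insert, Finset.mem_singleton] at hmem
  omega

end Cfsg.Lib.Small.SylowSeventeen
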