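import Mathlib
import Cfsg.Agent.Small.SylowSeventeen.Counts
import Cfsg.Agent.RankOne.PrimeKernelPGL

/-!
# Groups with trivial centre and Sylow numbers eighteen, one hundred thirty-six, one hundred fifty-three
-/

set_option autoImplicit false
set_option linter.unusedSectionVars false

open MulAction Cfsg.Lib.RankOne

namespace Cfsg.Lib.Small.SylowSeventeen

universe u v w

variable {G : Type u} [Group G] [Finite G] {s : ℕ} [Fact s.Prime]

/-- A subgroup normalising a Sylow subgroup meets it with index prime to the prime. -/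
theorem not_dvd_relIndex (S : Sylow s G) {X : Subgroup G}
    (hX : X ≤ Subgroup.normalizer ((S : Subgroup G) : Set G)) : ¬ s ∣ (S : Subgroup G).relIndex X := by
  intro h
  apply S.not_dvd_index
  refine h.trans (dvd_trans ?_ (Subgroup.relIndex_dvd_index_of_le Subgroup.le_normalizer))
  have h1 := Subgroup.relIndex_dvd_index_of_normal
    ((S : Subgroup G).subgroupOf (Subgroup.normalizer ((S : Subgroup G) : Set G)))
    (X.subgroupOf (Subgroup.normalizer ((S : Subgroup G) : Set G)))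
  rwa [Subgroup.relIndex_subgroupOf hX] at h1

theorem mem_of_smul_eq (S : Sylow s G) {x : G} {i : ℕ} (hx : orderOf x = s ^ i) (h : x • S = S) :
    x ∈ (S : Subgroup G) := by
  have hp : IsPGroup s (Subgroup.zpowers x) := IsPGroup.of_card (n := i) (by rw [Nat.card_zpowers, hx])
  have h1 := hp.inf_normalizer_sylow S
  have h2 : x ∈ Subgroup.zpowers x ⊓ Subgroup.normalizer ((S : Subgroup G) : Set G) :=
    ⟨Subgroup.mem_zpowers x, Sylow.smul_eq_iff_mem_normalizer.1 h⟩
  exact (h1 ▸ h2 : x ∈ Subgroup.zpowers x ⊓ (S : Subgroup G)).2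

/-- The number of Sylow subgroups for `r`, when a normal subgroup `K` contains them and has a
normal Sylow `s`-subgroup: its `s`-part is congruent to one. -/
theorem exists_part {r : ℕ} [Fact r.Prime] (K : Subgroup G) [hK : K.Normal]
    (hQK : ∀ Q : Sylow r G, (Q : Subgroup G) ≤ K)
    (hKs : ∀ k ∈ K, ∀ S : Sylow s G, k • S = S) :
    ∃ i j : ℕ, ¬ s ∣ j ∧ Nat.card (Sylow r G) ∣ s ^ i * j ∧ s ^ i ∣ Nat.card (Sylow r G) * (s ^ i * j) ∧
      s ^ i ≡ 1 [MOD r] ∧ (∀ e, s ^ e ∣ Nat.card (Sylow r G) → e ≤ i) ∧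
      (∀ e, ¬ s ^ (e + 1) ∣ Nat.card (Sylow r G) → i ≤ e) := by
  classical
  obtain ⟨Q⟩ := (inferInstance : Nonempty (Sylow r G))
  obtain ⟨S⟩ := (inferInstance : Nonempty (Sylow s G))
  set N := stabilizer G Q with hN
  set Ks := K ⊓ (S : Subgroup G) with hKsdef
  -- the Sylow subgroups form one orbit of `K`
  have htrans : ∀ Q' : Sylow r G, ∃ k ∈ K, k • Q = Q' := by
    intro Q'
    obtain ⟨k, hk⟩ := exists_smul_eq K (Q.subtype (hQK Q)) (Q'.subtype (hQK Q'))
    refine ⟨k, k.2, Sylow.ext ?_⟩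
    have h1 := congrArg (fun W : Sylow r K => (W : Subgroup K).map K.subtype) hk
    simp only [Sylow.coe_subtype, Sylow.coe_subgroup_smul, Subgroup.subgroupOf_map_subtype,
      inf_eq_left.2 (hQK Q')] at h1
    rw [Sylow.coe_subgroup_smul]
    refine Eq.trans ?_ h1
    ext x
    simp only [Subgroup.mem_pointwise_smul_iff_inv_smul_mem, Subgroup.mem_map, MulAut.smul_def,
      MulAut.inv_def, MulAut.conj_symm_apply, Subgroup.mem_subgroupOf, Subgroup.coe_subtype]
    constructor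
    · intro hx
      have hxK : x ∈ K := by
        have := hK.conj_mem _ (hQK Q hx) (k : G)
        simpa [mul_assoc] using this
      exact ⟨⟨x, hxK⟩, hx, rfl⟩
    · rintro ⟨y, hy, rfl⟩
      exact hy
  have hc : Nat.card (Sylow r G) = N.relIndex K := by
    rw [Subgroup.relIndex, show N.subgroupOf K = stabilizer K Q from rfl, index_stabilizer,
      show orbit K Q = Set.univ from Set.eq_univ_of_forall fun Q' => by
        obtain ⟨k, hk, hkQ⟩ := htrans Q'
        exact ⟨⟨k, hk⟩, hkQ⟩, Set.ncard_univ]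
  obtain ⟨i, hi⟩ : ∃ i, N.relIndex Ks = s ^ i := by
    obtain ⟨n, hn⟩ := (S.2.to_le (inf_le_right : Ks ≤ (S : Subgroup G))).exists_card_eq
    have : N.relIndex Ks ∣ s ^ n := hn ▸ Subgroup.relIndex_dvd_card N Ks
    obtain ⟨i, -, hi⟩ := (Nat.dvd_prime_pow (Fact.out : s.Prime)).1 this
    exact ⟨i, hi⟩
  have hKN : ∀ X ≤ K, X ≤ Subgroup.normalizer ((S : Subgroup G) : Set G) := fun X hX k hk =>
    Sylow.smul_eq_iff_mem_normalizer.1 (hKs k (hX hk) S)
  have hj : ¬ s ∣ Ks.relIndex K := by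
    rw [show Ks = (S : Subgroup G) ⊓ K from inf_comm _ _, Subgroup.inf_relIndex_right]
    exact not_dvd_relIndex S (hKN K le_rfl)
  have hj' : ¬ s ∣ Ks.relIndex (N ⊓ K) := by
    have : Ks.relIndex (N ⊓ K) = (S : Subgroup G).relIndex (N ⊓ K) := by
      rw [← Subgroup.inf_relIndex_right Ks (N ⊓ K),
        show Ks ⊓ (N ⊓ K) = (S : Subgroup G) ⊓ (N ⊓ K) from le_antisymm
          (le_inf (inf_le_left.trans inf_le_right) inf_le_right)
          (le_inf (le_inf (inf_le_right.trans inf_le_right) inf_le_left) inf_le_right),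
        Subgroup.inf_relIndex_right]
    rw [this]
    exact not_dvd_relIndex S (hKN _ inf_le_right)
  have heq : N.relIndex Ks * Ks.relIndex K = Ks.relIndex (N ⊓ K) * N.relIndex K := by
    have h1 := Subgroup.relIndex_mul_relIndex (N ⊓ Ks) Ks K inf_le_right inf_le_left
    have h2 := Subgroup.relIndex_mul_relIndex (N ⊓ Ks) (N ⊓ K) K
      (le_inf inf_le_left (inf_le_right.trans inf_le_left)) inf_le_right
    rw [Subgroup.inf_relIndex_right] at h1
    rw [Subgroup.inf_relIndex_right, show N ⊓ Ks = Ks ⊓ (N ⊓ K) from le_antisymm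
      (le_inf inf_le_right (le_inf inf_le_left (inf_le_right.trans inf_le_left)))
      (le_inf (inf_le_right.trans inf_le_left) inf_le_left), Subgroup.inf_relIndex_right] at h2
    rw [show Ks ⊓ (N ⊓ K) = N ⊓ Ks from le_antisymm
      (le_inf (inf_le_right.trans inf_le_left) inf_le_left)
      (le_inf inf_le_right (le_inf inf_le_left (inf_le_right.trans inf_le_left)))] at h2
    exact h1.trans h2.symm
  rw [hi, ← hc] at heq
  have hcop : ∀ e, Nat.Coprime (s ^ e) (Ks.relIndex (N ⊓ K)) := fun e =>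
    (((Fact.out : s.Prime).coprime_iff_not_dvd).2 hj').pow_left e
  refine ⟨i, Ks.relIndex K, hj, ?_, Dvd.dvd.mul_left (dvd_mul_right _ _) _, ?_, ?_, ?_⟩
  · exact heq ▸ dvd_mul_left _ _
  · -- the orbit of `Ks` is permuted by `Q` with one fixed point
    have horb : ∀ q ∈ (Q : Subgroup G), ∀ x ∈ orbit Ks Q, q • x ∈ orbit Ks Q := by
      rintro q hq _ ⟨⟨k, hk⟩, rfl⟩
      have hqK : q ∈ K := hQK Q hq
      have hk' : q * k * q⁻¹ ∈ Ks := by
        refine ⟨hK.conj_mem k hk.1 q, ?_⟩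
        have hS := Sylow.smul_eq_iff_mem_normalizer.1 (hKs q hqK S)
        exact (Subgroup.mem_set_normalizer_iff.1 hS k).1 hk.2
      refine ⟨⟨_, hk'⟩, ?_⟩
      have hqQ : q • Q = Q := Sylow.smul_eq_iff_mem_normalizer.2 (Subgroup.le_normalizer hq)
      show (q * k * q⁻¹) • Q = q • k • Q
      rw [mul_smul, mul_smul, inv_smul_eq_iff.2 hqQ.symm]
    let A : SubMulAction (Q : Subgroup G) (Sylow r G) :=
      { carrier := orbit Ks Q, smul_mem' := fun q x hx => horb q q.2 x hx }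
    haveI : Finite A := Finite.of_injective (fun x : A => x.1) Subtype.val_injective
    have h1 := Q.2.card_modEq_card_fixedPoints A
    have hfix : Nat.card (fixedPoints (Q : Subgroup G) A) = 1 := by
      have hQA : Q ∈ orbit Ks Q := mem_orbit_self Q
      refine Nat.card_eq_one_iff_unique.2 ⟨⟨fun x y => ?_⟩, ⟨⟨⟨Q, hQA⟩, fun q => Subtype.ext ?_⟩⟩⟩
      · have key : ∀ z : fixedPoints (Q : Subgroup G) A, z.1.1 = Q := fun z => by
          have hle : (Q : Subgroup G) ≤ Subgroup.normalizer (z.1.1 : Set G) :=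
            fun q hq => Sylow.smul_eq_iff_mem_normalizer.1 (congrArg Subtype.val (z.2 ⟨q, hq⟩))
          have h2 := Q.2.inf_normalizer_sylow z.1.1
          rw [inf_eq_left.2 hle] at h2
          exact Sylow.ext (Q.3 z.1.1.2 (inf_eq_left.1 h2.symm))
        exact Subtype.ext (Subtype.ext ((key x).trans (key y).symm))
      · exact Sylow.smul_eq_iff_mem_normalizer.2 (Subgroup.le_normalizer q.2)
    rw [hfix] at h1
    have hd : Nat.card A = s ^ i := by
      rw [← hi, Subgroup.relIndex, show N.subgroupOf Ks = stabilizer Ks Q from rfl, index_stabilizer]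
      exact Nat.card_coe_set_eq _
    rwa [hd] at h1
  · intro e he
    have h1 : s ^ e ∣ s ^ i * Ks.relIndex K := heq ▸ he.trans (dvd_mul_left _ _)
    have h2 := ((((Fact.out : s.Prime).coprime_iff_not_dvd).2 hj).pow_left e).dvd_of_dvd_mul_right h1
    exact (Nat.pow_dvd_pow_iff_le_right (Fact.out : s.Prime).one_lt).1 h2
  · intro e he
    by_contra hlt
    refine he (((hcop (e + 1))).dvd_of_dvd_mul_left ?_)
    rw [← heq]
    exact (pow_dvd_pow s (by omega : e + 1 ≤ i)).trans (dvd_mul_right _ _)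

variable (G) in
/-- The classification. -/
theorem main (hZ : Subgroup.center G = ⊥)
    (hNS : {c : ℕ | ∃ r : ℕ, r.Prime ∧ r ∣ Nat.card G ∧ c = Nat.card (Sylow r G)} =
      ({18, 136, 153} : Set ℕ))
    {F : Type w} [Field F] [Fintype F] (hF : Fintype.card F = 17) :
    Nonempty (G ≃* Matrix.ProjectiveSpecialLinearGroup (Fin 2) F) ∨
      Nonempty (G ≃* (GL (Fin 2) F ⧸ Subgroup.center (GL (Fin 2) F))) := by
  classical
  haveI h17 : Fact (Nat.Prime 17) := ⟨by norm_num⟩
  have hval : ∀ r : ℕ, r.Prime → r ∣ Nat.card G →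
      Nat.card (Sylow r G) = 18 ∨ Nat.card (Sylow r G) = 136 ∨ Nat.card (Sylow r G) = 153 :=
    fun r hr hd => by
      have : Nat.card (Sylow r G) ∈ ({18, 136, 153} : Set ℕ) := hNS ▸ ⟨r, hr, hd, rfl⟩
      simpa using this
  have hmod : ∀ r : ℕ, r.Prime → Nat.card (Sylow r G) % r = 1 := fun r hr => by
    haveI := Fact.mk hr
    have := card_sylow_modEq_one r G
    rwa [Nat.ModEq, Nat.one_mod_eq_one.2 hr.one_lt.ne'] at this
  have hdvd : ∀ r : ℕ, r.Prime → ∀ c, Nat.card (Sylow r G) = c → r ∣ c - 1 := fun r hr c hc => by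
    have := hmod r hr
    rw [hc] at this
    exact ⟨c / r, by have := Nat.div_add_mod c r; omega⟩
  have hprimes : ∀ r : ℕ, r.Prime → r ∣ Nat.card G →
      (r = 17 ∧ Nat.card (Sylow r G) = 18) ∨ (r = 2 ∧ Nat.card (Sylow r G) = 153) ∨
      (r = 3 ∧ Nat.card (Sylow r G) = 136) ∨ (r = 5 ∧ Nat.card (Sylow r G) = 136) ∨
      (r = 19 ∧ Nat.card (Sylow r G) = 153) := by
    intro r hr hd
    rcases hval r hr hd with h | h | h
    · have h1 : r ∣ 17 := hdvd r hr _ h
      exact Or.inl ⟨(Nat.prime_dvd_prime_iff_eq hr h17.out).1 h1, h⟩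
    · have h1 : r ∣ 3 ^ 3 * 5 := hdvd r hr _ h
      rcases hr.dvd_mul.1 h1 with h2 | h2
      · exact Or.inr (Or.inr (Or.inl ⟨(Nat.prime_dvd_prime_iff_eq hr Nat.prime_three).1 (hr.dvd_of_dvd_pow h2), h⟩))
      · exact Or.inr (Or.inr (Or.inr (Or.inl ⟨(Nat.prime_dvd_prime_iff_eq hr Nat.prime_five).1 h2, h⟩)))
    · have h1 : r ∣ 2 ^ 3 * 19 := hdvd r hr _ h
      rcases hr.dvd_mul.1 h1 with h2 | h2
      · exact Or.inr (Or.inl ⟨(Nat.prime_dvd_prime_iff_eq hr Nat.prime_two).1 (hr.dvd_of_dvd_pow h2), h⟩)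
      · exact Or.inr (Or.inr (Or.inr (Or.inr ⟨(Nat.prime_dvd_prime_iff_eq hr (by norm_num)).1 h2, h⟩)))
  obtain ⟨r₀, hr₀, hd₀, hc₀⟩ : (18 : ℕ) ∈ {c : ℕ | ∃ r : ℕ, r.Prime ∧ r ∣ Nat.card G ∧ c = Nat.card (Sylow r G)} := by
    rw [hNS]; simp
  obtain rfl : r₀ = 17 := by
    rcases hprimes r₀ hr₀ hd₀ with ⟨h, -⟩ | ⟨-, h⟩ | ⟨-, h⟩ | ⟨-, h⟩ | ⟨-, h⟩ <;> omega
  have h18 : Nat.card (Sylow 17 G) = 18 := hc₀.symm
  obtain ⟨P⟩ := (inferInstance : Nonempty (Sylow 17 G))
  have h18G : 18 ∣ Nat.card G := by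
    rw [← h18]
    exact P.card_dvd_index.trans (Subgroup.index_dvd_card _)
  letI : Fintype (Sylow 17 G) := Fintype.ofFinite _
  set φ := MulAction.toPermHom G (Sylow 17 G) with hφ
  set f := φ.rangeRestrict with hf
  have hfsurj : Function.Surjective f := φ.rangeRestrict_surjective
  have hfap : ∀ (g : G) (x : Sylow 17 G), f g • x = g • x := fun g x => rfl
  set Pb : Subgroup φ.range := (P : Subgroup G).map f with hPb
  have hne : ∃ Q : Sylow 17 G, Q ≠ P := by
    by_contra h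
    push Not at h
    have : Subsingleton (Sylow 17 G) := ⟨fun x y => (h x).trans (h y).symm⟩
    have := Finite.card_le_one_iff_subsingleton.2 this
    omega
  have heqP : ∀ Q : Sylow 17 G, (∀ v ∈ (P : Subgroup G), v • Q = Q) → Q = P := by
    intro Q hQ
    have h1 := P.2.inf_normalizer_sylow Q
    rw [inf_eq_left.2 (show (P : Subgroup G) ≤ Subgroup.normalizer (Q : Set G) from
      fun v hv => Sylow.smul_eq_iff_mem_normalizer.1 (hQ v hv))] at h1
    exact Sylow.ext (P.3 Q.2 (inf_eq_left.1 h1.symm))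
  have hPb17 : Nat.card Pb = 17 := by
    obtain ⟨i, hi⟩ := (P.2.map f).exists_card_eq
    have h1 : Nat.card φ.range ∣ Nat.factorial 18 := by
      have := Subgroup.card_subgroup_dvd_card φ.range
      rwa [Nat.card_perm, h18] at this
    have h2 : 17 ^ i ∣ Nat.factorial 18 := hi ▸ (Subgroup.card_subgroup_dvd_card Pb).trans h1
    have hi1 : i ≤ 1 := by
      by_contra h
      have h3 : 17 ^ 2 ∣ Nat.factorial 18 := (pow_dvd_pow 17 (by omega : 2 ≤ i)).trans h2
      norm_num [Nat.factorial] at h3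
    rcases (show i = 0 ∨ i = 1 by omega) with rfl | rfl
    · exfalso
      obtain ⟨Q, hQ⟩ := hne
      refine hQ (heqP Q fun v hv => ?_)
      have : f v ∈ Pb := Subgroup.mem_map_of_mem f hv
      have hb : Pb = ⊥ := Subgroup.card_eq_one.1 (hi.trans (pow_zero 17))
      rw [hb, Subgroup.mem_bot] at this
      rw [← hfap, this, one_smul]
    · exact hi.trans (pow_one 17)
  have htr : IsPretransitive φ.range (Sylow 17 G) := ⟨fun x y => by
    obtain ⟨g, hg⟩ := exists_smul_eq G x y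
    exact ⟨f g, by rw [hfap, hg]⟩⟩
  have hPK : PrimeKernel 17 P Pb := by
    refine ⟨h17.out, ?_, hPb17, ?_, ?_, ?_, htr, ⟨fun h => Subtype.ext (Equiv.ext h)⟩⟩
    · rw [← Nat.card_eq_fintype_card, h18]
    · rintro _ ⟨v, hv, rfl⟩
      exact (hfap v P).trans (Sylow.smul_eq_iff_mem_normalizer.2 (Subgroup.le_normalizer hv))
    · rintro g' hg' _ ⟨v, hv, rfl⟩
      obtain ⟨g, rfl⟩ := hfsurj g'
      have hg : g ∈ Subgroup.normalizer ((P : Subgroup G) : Set G) :=
        Sylow.smul_eq_iff_mem_normalizer.1 ((hfap g P).symm.trans hg')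
      exact ⟨g * v * g⁻¹, (Subgroup.mem_set_normalizer_iff.1 hg v).1 hv, by rw [map_mul, map_mul, map_inv]⟩
    · intro u hu hu1 Q hQ
      refine heqP Q fun v hv => ?_
      have h1 : Subgroup.zpowers u = Pb := Subgroup.eq_of_le_of_card_ge (Subgroup.zpowers_le.2 hu) (by
        have h2 : orderOf u ∣ 17 := by
          have := Subgroup.orderOf_dvd_natCard _ hu
          rwa [hPb17] at this
        rw [Nat.card_zpowers, hPb17]
        rcases (Nat.dvd_prime h17.out).1 h2 with h | h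
        · exact absurd (orderOf_eq_one_iff.1 h) hu1
        · rw [h])
      have h3 : f v ∈ stabilizer φ.range Q := by
        have : Pb ≤ stabilizer φ.range Q := h1 ▸ Subgroup.zpowers_le.2 hQ
        exact this (Subgroup.mem_map_of_mem f hv)
      rw [← hfap]
      exact h3
  obtain ⟨Q₀, hQ₀⟩ := exists_ne_point hPK
  obtain ⟨e, he, he8, hH⟩ := order_cases hPK hQ₀
  -- the kernel normalises the Sylow subgroups for 2, 3 and 17
  set K := φ.ker with hKdef
  have hKmap : ∀ k ∈ K, f k = 1 := fun k hk => Subtype.ext (MonoidHom.mem_ker.1 hk)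
  have hKfix : ∀ r : ℕ, r.Prime → (r = 2 ∨ r = 3 ∨ r = 17) →
      ∀ k ∈ K, ∀ Q : Sylow r G, k • Q = Q := by
    intro r hr hr3
    haveI := Fact.mk hr
    rcases eq_or_ne r 17 with rfl | hne17
    · intro k hk Q
      rw [← hfap, hKmap k hk, one_smul]
    intro k hk Q
    have hrd : r ∣ Nat.card G := by
      rcases hr3 with rfl | rfl | rfl
      · exact (by norm_num : 2 ∣ 18).trans h18G
      · exact (by norm_num : 3 ∣ 18).trans h18G
      · exact hd₀
    have hcard : Nat.card (Sylow r G) = Nat.card (Sylow r φ.range) := by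
      rcases hprimes r hr hrd with ⟨rfl, h⟩ | ⟨rfl, h⟩ | ⟨rfl, h⟩ | ⟨rfl, h⟩ | ⟨rfl, h⟩
      · exact absurd rfl hne17
      · rw [h, card_sylow_two hPK]
      · rw [h, card_sylow_three hPK]
      all_goals omega
    haveI : Finite (Sylow r φ.range) := inferInstance
    have hbij := (Sylow.mapSurjective_surjective hfsurj r).bijective_of_nat_card_le (le_of_eq hcard)
    refine hbij.1 (Sylow.ext ?_)
    rw [Sylow.coe_mapSurjective, Sylow.coe_mapSurjective, Sylow.coe_subgroup_smul]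
    ext x
    simp only [Subgroup.mem_map, Subgroup.mem_pointwise_smul_iff_inv_smul_mem, MulAut.smul_def,
      MulAut.inv_def, MulAut.conj_symm_apply]
    constructor
    · rintro ⟨y, hy, rfl⟩
      refine ⟨_, hy, ?_⟩
      simp [map_mul, map_inv, hKmap k hk]
    · rintro ⟨y, hy, rfl⟩
      refine ⟨k * y * k⁻¹, ?_, ?_⟩
      · simpa [mul_assoc] using hy
      · simp [map_mul, map_inv, hKmap k hk]
  -- only the primes 2, 3 and 17 occur
  have hout : ∀ r : ℕ, r.Prime → ¬ r ∣ 2 * 3 * 17 → r ∣ Nat.card G → ∀ Q : Sylow r G,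
      (Q : Subgroup G) ≤ K := by
    intro r hr hnd _ Q x hx
    haveI := Fact.mk hr
    refine MonoidHom.mem_ker.2 ?_
    have h1 : orderOf (f x) ∣ Nat.card φ.range := orderOf_dvd_natCard _
    obtain ⟨i, hi⟩ := (IsPGroup.iff_orderOf.1 Q.2) ⟨x, hx⟩
    rw [Subgroup.orderOf_mk] at hi
    have h2 : orderOf (f x) ∣ r ^ i := hi ▸ orderOf_map_dvd f x
    have h3 : Nat.Coprime (r ^ i) (Nat.card φ.range) := by
      refine Nat.Coprime.pow_left i ((hr.coprime_iff_not_dvd).2 fun h => hnd ?_)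
      rw [hH] at h
      rcases hr.dvd_mul.1 h with h | h
      · rw [show 306 = 2 * 3 * 17 * 3 by norm_num] at h
        rcases hr.dvd_mul.1 h with h | h
        · exact h
        · exact h.trans ⟨34, by norm_num⟩
      · have : r ∣ 2 ^ 4 := h.trans (by rcases he8 with rfl | rfl <;> norm_num)
        exact (hr.dvd_of_dvd_pow this).trans ⟨51, by norm_num⟩
    exact congrArg Subtype.val (orderOf_eq_one_iff.1 (Nat.eq_one_of_dvd_coprimes h3 h2 h1))
  have hpi : ∀ r : ℕ, r.Prime → r ∣ Nat.card G → r = 2 ∨ r = 3 ∨ r = 17 := by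
    intro r hr hd
    rcases hprimes r hr hd with ⟨rfl, -⟩ | ⟨rfl, -⟩ | ⟨rfl, -⟩ | ⟨rfl, h⟩ | ⟨rfl, h⟩
    · exact Or.inr (Or.inr rfl)
    · exact Or.inl rfl
    · exact Or.inr (Or.inl rfl)
    · exfalso
      haveI := Fact.mk hr
      haveI : Fact (Nat.Prime 2) := ⟨Nat.prime_two⟩
      obtain ⟨i, j, -, -, -, hi, hlo, hhi⟩ := exists_part (s := 2) (r := 5) K (hout 5 hr (by norm_num) hd)
        (hKfix 2 Nat.prime_two (Or.inl rfl))
      rw [h] at hlo hhi
      have h3 : 3 ≤ i := hlo 3 (by norm_num)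
      have h3' : i ≤ 3 := hhi 3 (by norm_num)
      obtain rfl : i = 3 := by omega
      exact absurd hi (by decide)
    · exfalso
      haveI := Fact.mk hr
      haveI : Fact (Nat.Prime 3) := ⟨Nat.prime_three⟩
      obtain ⟨i, j, -, -, -, hi, hlo, hhi⟩ := exists_part (s := 3) (r := 19) K (hout 19 hr (by norm_num) hd)
        (hKfix 3 Nat.prime_three (Or.inr (Or.inl rfl)))
      rw [h] at hlo hhi
      have h3 : 2 ≤ i := hlo 2 (by norm_num)
      have h3' : i ≤ 2 := hhi 2 (by norm_num)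
      obtain rfl : i = 2 := by omega
      exact absurd hi (by decide)
  -- the kernel is trivial
  have hK1 : K = ⊥ := by
    by_contra hKne
    obtain ⟨s, hs, hsK⟩ := Nat.exists_prime_and_dvd (n := Nat.card K)
      fun h => hKne (Subgroup.card_eq_one.1 h)
    haveI := Fact.mk hs
    have hsπ := hpi s hs (hsK.trans (Subgroup.card_subgroup_dvd_card K))
    have hKs := hKfix s hs hsπ
    obtain ⟨S⟩ := (inferInstance : Nonempty (Sylow s G))
    set X : Subgroup (S : Subgroup G) := K.subgroupOf (S : Subgroup G) with hX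
    have hXne : X ≠ ⊥ := by
      intro h
      obtain ⟨⟨x, hx⟩, hxs⟩ := exists_prime_orderOf_dvd_card' s hsK
      rw [Subgroup.orderOf_mk] at hxs
      have hxS : x ∈ (S : Subgroup G) := mem_of_smul_eq S (hxs.trans (pow_one s).symm) (hKs x hx S)
      have : (⟨x, hxS⟩ : (S : Subgroup G)) ∈ X := hx
      rw [h, Subgroup.mem_bot] at this
      rw [show x = 1 from congrArg Subtype.val this, orderOf_one] at hxs
      exact hs.ne_one hxs.symm
    obtain ⟨⟨z, hzS⟩, hzK, hzc, hz1⟩ := Cfsg.Lib.Small.exists_central_of_normal S.2 X hXne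
    have hzK' : z ∈ K := hzK
    obtain ⟨i, hi⟩ := (IsPGroup.iff_orderOf.1 S.2) ⟨z, hzS⟩
    rw [Subgroup.orderOf_mk] at hi
    have hC : ∀ (t : ℕ) (ht : t.Prime), t ∣ Nat.card G → ∃ T : Sylow t G,
        ∀ v ∈ (T : Subgroup G), v * z = z * v := by
      intro t ht htd
      haveI := Fact.mk ht
      rcases eq_or_ne t s with rfl | hts
      · exact ⟨S, fun v hv => congrArg Subtype.val (Subgroup.mem_center_iff.1 hzc ⟨v, hv⟩)⟩
      obtain ⟨T⟩ := (inferInstance : Nonempty (Sylow t G))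
      refine ⟨T, fun v hv => ?_⟩
      have hzT := Sylow.smul_eq_iff_mem_normalizer.1 (hKfix t ht (hpi t ht htd) z hzK' T)
      have h1 : z * v * z⁻¹ * v⁻¹ ∈ (T : Subgroup G) :=
        mul_mem ((Subgroup.mem_set_normalizer_iff.1 hzT v).1 hv) (inv_mem hv)
      have hw : v * z⁻¹ * v⁻¹ ∈ (S : Subgroup G) := by
        have hwK : v * z⁻¹ * v⁻¹ ∈ K := (inferInstance : K.Normal).conj_mem _ (inv_mem hzK') v
        refine mem_of_smul_eq S (i := i) ?_ (hKs _ hwK S)
        rw [show v * z⁻¹ * v⁻¹ = MulAut.conj v z⁻¹ from rfl, MulEquiv.orderOf_eq, orderOf_inv, hi]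
      have h2 : z * v * z⁻¹ * v⁻¹ ∈ (S : Subgroup G) := by
        rw [show z * v * z⁻¹ * v⁻¹ = z * (v * z⁻¹ * v⁻¹) by group]
        exact mul_mem hzS hw
      have h3 := IsPGroup.disjoint_of_ne t s hts _ _ T.2 S.2
      have h4 : z * v * z⁻¹ * v⁻¹ = 1 := Subgroup.disjoint_def.1 h3 h1 h2
      exact (mul_inv_eq_iff_eq_mul.1 (mul_inv_eq_one.1 h4)).symm
    set C := Subgroup.centralizer ({z} : Set G) with hCdef
    have hCdvd : Nat.card G ∣ Nat.card C := by
      refine (Nat.dvd_iff_prime_pow_dvd_dvd _ _).2 fun t k ht hk => ?_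
      rcases Nat.eq_zero_or_pos k with rfl | hk0
      · simp
      haveI := Fact.mk ht
      obtain ⟨T, hT⟩ := hC t ht ((dvd_pow_self t hk0.ne').trans hk)
      have hle : (T : Subgroup G) ≤ C := fun v hv =>
        Subgroup.mem_centralizer_singleton_iff.2 (hT v hv)
      refine dvd_trans ?_ (Subgroup.card_dvd_of_le hle)
      rw [T.card_eq_multiplicity]
      exact pow_dvd_pow t ((ht.pow_dvd_iff_le_factorization Nat.card_pos.ne').1 hk)
    have hCtop : C = ⊤ := Subgroup.eq_top_of_card_eq _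
      (Nat.dvd_antisymm (Subgroup.card_subgroup_dvd_card C) hCdvd)
    have hzC : z ∈ Subgroup.center G := Subgroup.mem_center_iff.2 fun g =>
      Subgroup.mem_centralizer_singleton_iff.1 (hCtop ▸ Subgroup.mem_top g : g ∈ C)
    rw [hZ, Subgroup.mem_bot] at hzC
    exact hz1 (Subtype.ext hzC)
  have hfinj : Function.Injective f := fun x y h => by
    refine (MonoidHom.ker_eq_bot_iff φ).1 hK1 ?_
    exact congrArg Subtype.val h
  let ψ : G ≃* φ.range := MulEquiv.ofBijective f ⟨hfinj, hfsurj⟩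
  rcases he8 with rfl | rfl
  · left
    obtain ⟨hcN, hiso⟩ := card_socle (Ω := Sylow 17 G) hPK
    have htop : Subgroup.normalClosure (Pb : Set φ.range) = ⊤ :=
      Subgroup.eq_top_of_card_eq _ (by rw [hcN, hH])
    obtain ⟨g₁⟩ := hiso (ZMod 17) (ZMod.card 17)
    obtain ⟨g₂⟩ := nonempty_psl_equiv (ZMod.card 17) hF
    exact ⟨((ψ.trans Subgroup.topEquiv.symm).trans (MulEquiv.subgroupCongr htop.symm)).trans (g₁.trans g₂)⟩
  · right
    obtain ⟨g₁⟩ := PrimeKernel.pgl hPK hQ₀ (by rw [hH]) he.symm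
    let c : ZMod 17 ≃+* F := FiniteField.ringEquivOfCardEq (by rw [ZMod.card, hF])
    let cG : GL (Fin 2) (ZMod 17) ≃* GL (Fin 2) F := Units.mapEquiv c.mapMatrix.toMulEquiv
    have hmap : (Subgroup.center (GL (Fin 2) (ZMod 17))).map (cG : _ →* _) =
        Subgroup.center (GL (Fin 2) F) := by
      ext x
      simp only [Subgroup.mem_map, Subgroup.mem_center_iff, MonoidHom.coe_coe]
      constructor
      · rintro ⟨y, hy, rfl⟩ g
        obtain ⟨g', rfl⟩ := cG.surjective g
        rw [← map_mul, ← map_mul, hy g']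
      · intro hx
        refine ⟨cG.symm x, fun g => ?_, cG.apply_symm_apply x⟩
        apply cG.injective
        rw [map_mul, map_mul, cG.apply_symm_apply]
        exact hx (cG g)
    exact ⟨(ψ.trans g₁).trans (QuotientGroup.congr _ _ cG hmap)⟩

end Cfsg.Lib.Small.SylowSeventeen
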